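import Mathlib
import Cfsg.Agent.Lib.ClassSize.SylowCentralizer
import Cfsg.Agent.Lib.PNilpotent.Basic
import Cfsg.Agent.Lib.Char.Burnside
import Cfsg.Agent.Lib.Components.Subnormal
import Cfsg.Agent.Lib.CharP.PCore
import Cfsg.Agent.Lib.FGS73.Cover

/-!
# Tools for the graph of class sizes of `p`-singular elements

Elementary index lemmas, groups in which every `p'`-element centralises a Sylow `p`-subgroup, and
a consequence of Burnside's class size theorem.
-/

set_option autoImplicit false
set_option linter.style.haveILetI false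

namespace CfsgLib.PSingular

open Subgroup

universe u

variable {G : Type u} [Group G]

theorem centralizer_le_pow (x : G) (k : ℕ) :
    centralizer ({x} : Set G) ≤ centralizer ({x ^ k} : Set G) := by
  intro g hg
  rw [mem_centralizer_singleton_iff] at hg ⊢
  exact (Commute.pow_right (show Commute g x from hg) k).eq

theorem centralizer_mul_le [Finite G] {u v : G} (h : Commute u v)
    (hc : (orderOf u).Coprime (orderOf v)) :
    centralizer ({u * v} : Set G) ≤ centralizer ({u} : Set G) ⊓ centralizer ({v} : Set G) := by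
  obtain ⟨a, ha1, ha2⟩ := Nat.chineseRemainder hc 1 0
  obtain ⟨b, hb1, hb2⟩ := Nat.chineseRemainder hc 0 1
  have hu : (u * v) ^ a = u := by
    rw [h.mul_pow, pow_eq_pow_iff_modEq.mpr ha1, pow_eq_pow_iff_modEq.mpr ha2, pow_one, pow_zero,
      mul_one]
  have hv : (u * v) ^ b = v := by
    rw [h.mul_pow, pow_eq_pow_iff_modEq.mpr hb1, pow_eq_pow_iff_modEq.mpr hb2, pow_one, pow_zero,
      one_mul]
  refine le_inf ?_ ?_
  · simpa [hu] using centralizer_le_pow (u * v) a
  · simpa [hv] using centralizer_le_pow (u * v) b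

theorem index_centralizer_conj [Finite G] (x g : G) :
    (centralizer ({g * x * g⁻¹} : Set G)).index = (centralizer ({x} : Set G)).index := by
  rw [← ClassSize.ncard_setOf_isConj, ← ClassSize.ncard_setOf_isConj]
  congr 1
  ext y
  have hg : IsConj x (g * x * g⁻¹) := isConj_iff.mpr ⟨g, rfl⟩
  exact ⟨fun h => hg.trans h, fun h => hg.symm.trans h⟩

/-- If `M` has full index relative to `K` then `G = K M`. -/
theorem exists_mul_of_dvd_relIndex [Finite G] (M K : Subgroup G)
    (h : M.index ∣ M.relIndex K) (g : G) : ∃ k ∈ K, ∃ m ∈ M, g = k * m := by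
  classical
  let f : (K ⧸ M.subgroupOf K) → G ⧸ M :=
    Quotient.lift (fun k : K => ((k : G) : G ⧸ M)) (fun x y hxy => by
      replace hxy := QuotientGroup.leftRel_apply.mp hxy
      exact QuotientGroup.eq.mpr hxy)
  have hinj : Function.Injective f := by
    rintro ⟨x⟩ ⟨y⟩ hxy
    replace hxy : ((x : G) : G ⧸ M) = ((y : G) : G ⧸ M) := hxy
    refine Quotient.sound (QuotientGroup.leftRel_apply.mpr ?_)
    exact (QuotientGroup.eq (s := M)).mp hxy
  have hsurj : Function.Surjective f := by
    refine (Function.Injective.bijective_of_nat_card_le hinj ?_).2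
    exact Nat.le_of_dvd Nat.card_pos h
  obtain ⟨⟨k⟩, hk⟩ := hsurj (g : G ⧸ M)
  exact ⟨k, k.2, (k : G)⁻¹ * g, QuotientGroup.eq.mp hk, by simp⟩

theorem dvd_relIndex_of_coprime (M N : Subgroup G) (h : M.index.Coprime N.index) :
    M.index ∣ M.relIndex N := by
  refine h.dvd_of_dvd_mul_right ?_
  rw [← inf_relIndex_right M N, relIndex_mul_index inf_le_right]
  exact index_dvd_of_le inf_le_left

/-- For `K` normal the index of `C ⊓ K` in `K` divides the index of `C`. -/
theorem relIndex_dvd_index [Finite G] (C K : Subgroup G) [K.Normal] :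
    C.relIndex K ∣ C.index := by
  have h1 : (C ⊓ K).relIndex C * C.relIndex (C ⊔ K) = (C ⊓ K).relIndex (C ⊔ K) :=
    relIndex_mul_relIndex _ _ _ inf_le_left le_sup_left
  have h2 : (C ⊓ K).relIndex K * K.relIndex (C ⊔ K) = (C ⊓ K).relIndex (C ⊔ K) :=
    relIndex_mul_relIndex _ _ _ inf_le_right le_sup_right
  rw [relIndex_sup_right, inf_relIndex_right, ← h1, inf_relIndex_left, mul_comm] at h2
  have h3 : C.relIndex K = C.relIndex (C ⊔ K) :=
    Nat.eq_of_mul_eq_mul_left (Nat.pos_of_ne_zero Subgroup.index_ne_zero_of_finite) h2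
  exact h3 ▸ relIndex_dvd_index_of_le le_sup_left

/-- A set invariant under left multiplication by an element of order `p` has size divisible by
`p`. -/
theorem dvd_ncard_of_mul_mem [Finite G] {p : ℕ} [Fact p.Prime] {c : G} (Z : Set G)
    (hc : c ^ p = 1) (hc1 : c ≠ 1) (h : ∀ z ∈ Z, c * z ∈ Z) : p ∣ Z.ncard := by
  have hpow : ∀ n : ℕ, ∀ z ∈ Z, c ^ n * z ∈ Z := by
    intro n
    induction n with
    | zero => intro z hz; simpa using hz
    | succ n ih => intro z hz; rw [pow_succ, mul_assoc]; exact ih _ (h z hz)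
  let S : SubMulAction (zpowers c) G :=
    { carrier := Z
      smul_mem' := by
        rintro ⟨d, hd⟩ z hz
        obtain ⟨n, rfl⟩ := (isOfFinOrder_of_finite c).mem_powers_iff_mem_zpowers.mpr hd
        exact hpow n z hz }
  have hord : orderOf c = p := orderOf_eq_prime hc hc1
  have hP : IsPGroup p (zpowers c) :=
    IsPGroup.of_card (n := 1) (by rw [Nat.card_zpowers, hord, pow_one])
  have := hP.card_modEq_card_fixedPoints S
  have hfix : MulAction.fixedPoints (zpowers c) S = ∅ := by
    rw [Set.eq_empty_iff_forall_notMem]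
    intro z hz
    have := Subtype.ext_iff.mp (hz ⟨c, mem_zpowers c⟩)
    change c * (z : G) = (z : G) at this
    exact hc1 (mul_eq_right.mp this)
  rw [hfix] at this
  rw [← Nat.card_coe_set_eq]
  change p ∣ Nat.card S
  exact Nat.modEq_zero_iff_dvd.mp (by simpa using this)

theorem not_dvd_iff_coprime {p : ℕ} [hp : Fact p.Prime] {n : ℕ} : n.Coprime p ↔ ¬ p ∣ n := by
  rw [Nat.coprime_comm, hp.out.coprime_iff_not_dvd]

/-- If every element of order prime to `p` centralises a Sylow `p`-subgroup then the Sylow
`p`-subgroup is normal and is centralised by these elements. -/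
theorem sylow_normal_of_forall [Finite G] {p : ℕ} [Fact p.Prime] (P : Sylow p G)
    (hG : ∀ h : G, ¬ p ∣ orderOf h →
      ∃ Q : Sylow p G, (Q : Subgroup G) ≤ centralizer ({h} : Set G)) :
    (P : Subgroup G).Normal ∧
      ∀ u ∈ (P : Subgroup G), ∀ h : G, ¬ p ∣ orderOf h → Commute u h := by
  have hN : normalizer ((P : Subgroup G) : Set G) = ⊤ := by
    refine FGS73.eq_top_of_forall_conj_mem fun g => ?_
    obtain ⟨a, b, hab, ⟨k, hk⟩, hb⟩ := PNilpotent.exists_pPart_decomp (p := p) g
    obtain ⟨Q, hQ⟩ := hG (g ^ b) (not_dvd_iff_coprime.mp hb)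
    have hu : g ^ a ∈ centralizer ({g ^ b} : Set G) :=
      mem_centralizer_singleton_iff.mpr (Commute.pow_pow_self g a b).eq
    have hz : IsPGroup p (zpowers (⟨g ^ a, hu⟩ : centralizer ({g ^ b} : Set G))) :=
      IsPGroup.of_card (n := k) (by rw [Nat.card_zpowers, Subgroup.orderOf_mk, hk])
    obtain ⟨R, hR⟩ := hz.exists_le_sylow
    obtain ⟨c, hc⟩ := MulAction.exists_smul_eq (centralizer ({g ^ b} : Set G)) (Q.subtype hQ) R
    obtain ⟨w, hw⟩ := MulAction.exists_smul_eq G P ((c : G) • Q)
    have hle : (((c : G) • Q : Sylow p G) : Subgroup G) ≤ centralizer ({g ^ b} : Set G) := by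
      intro x hx
      rw [Sylow.coe_subgroup_smul, Subgroup.mem_pointwise_smul_iff_inv_smul_mem] at hx
      have h1 := hQ hx
      rw [← map_inv, MulAut.smul_def, MulAut.conj_apply, inv_inv] at h1
      have h2 := mul_mem (mul_mem c.2 h1) (inv_mem c.2)
      simpa [mul_assoc] using h2
    have hua : g ^ a ∈ (((c : G) • Q : Sylow p G) : Subgroup G) := by
      have h1 := hR (mem_zpowers _)
      rw [← hc, Sylow.coe_subgroup_smul, Subgroup.mem_pointwise_smul_iff_inv_smul_mem,
        Sylow.coe_subtype, mem_subgroupOf] at h1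
      rw [Sylow.coe_subgroup_smul, Subgroup.mem_pointwise_smul_iff_inv_smul_mem]
      rw [← map_inv, MulAut.smul_def, MulAut.conj_apply, inv_inv] at h1 ⊢
      exact h1
    have hgn : g ∈ normalizer ((((c : G) • Q : Sylow p G) : Subgroup G) : Set G) := by
      have h : g ^ a * g ^ b ∈
          normalizer ((((c : G) • Q : Sylow p G) : Subgroup G) : Set G) := by
        refine mul_mem (le_normalizer hua) (centralizer_le_normalizer _ ?_)
        rw [mem_centralizer_iff]
        intro x hx
        exact mem_centralizer_singleton_iff.mp (hle hx)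
      rwa [hab] at h
    refine ⟨w, ?_⟩
    rw [← hw, Sylow.coe_subgroup_smul] at hgn
    exact PNilpotent.conj_mem_normalizer_iff.mp hgn
  have hn : (P : Subgroup G).Normal := normalizer_eq_top_iff.mp hN
  refine ⟨hn, fun u hu h hh => ?_⟩
  obtain ⟨Q, hQ⟩ := hG h hh
  haveI := Sylow.unique_of_normal P hn
  rw [Subsingleton.elim Q P] at hQ
  exact mem_centralizer_singleton_iff.mp (hQ hu)

/-- If all elements of prime order different from `p` have classes of `p`-power size then some
normal subgroup is a nontrivial group of prime power order. -/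
theorem exists_normal_qGroup {p : ℕ} [hp : Fact p.Prime] (H : Type u) [Group H] [Finite H]
    [Nontrivial H]
    (hH : ∀ x : H, (orderOf x).Prime → orderOf x ≠ p →
      ∃ k, (centralizer ({x} : Set H)).index = p ^ k) :
    ∃ q : ℕ, q.Prime ∧ Cfsg.pCore q H ≠ ⊥ := by
  induction hn : Nat.card H using Nat.strong_induction_on generalizing H with
  | h n ih =>
    subst hn
    by_cases hs : IsSimpleGroup H
    · by_cases hx : ∃ x : H, (orderOf x).Prime ∧ orderOf x ≠ p
      · obtain ⟨x, hx1, hx2⟩ := hx
        obtain ⟨k, hk⟩ := hH x hx1 hx2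
        have hprime := Char.card_prime_of_prime_pow_class p k hp.out x
          (fun h => hx1.ne_one (h ▸ orderOf_one)) hk
        haveI := Fact.mk hprime
        refine ⟨Nat.card H, hprime, fun hbot => ?_⟩
        have htop : IsPGroup (Nat.card H) (⊤ : Subgroup H) :=
          IsPGroup.of_card (n := 1) (by rw [Subgroup.card_top, pow_one])
        exact bot_ne_top (eq_top_iff.mpr ((Components.le_pCore_of_normal inferInstance htop).trans
          hbot.le))
      · refine ⟨p, hp.out, fun hbot => ?_⟩
        push Not at hx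
        have hP : IsPGroup p H := by
          refine IsPGroup.of_card (n := (Nat.card H).primeFactorsList.length) ?_
          refine Nat.eq_prime_pow_of_unique_prime_dvd Nat.card_pos.ne' fun {d} hd hdvd => ?_
          haveI := Fact.mk hd
          obtain ⟨x, hx'⟩ := exists_prime_orderOf_dvd_card' d hdvd
          rw [← hx']
          exact hx x (hx'.symm ▸ hd)
        exact bot_ne_top (eq_top_iff.mpr ((Components.le_pCore_of_normal inferInstance
          (hP.to_subgroup ⊤)).trans hbot.le))
    · obtain ⟨K, hK, hK1, hK2⟩ : ∃ K : Subgroup H, K.Normal ∧ K ≠ ⊥ ∧ K ≠ ⊤ := by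
        by_contra hcon
        push Not at hcon
        refine hs ⟨fun K hK => ?_⟩
        by_cases hK1 : K = ⊥
        · exact Or.inl hK1
        · exact Or.inr (hcon K hK hK1)
      haveI := nontrivial_iff_ne_bot K |>.mpr hK1
      have hcard : Nat.card K < Nat.card H :=
        lt_of_le_of_ne (card_le_card_group K) fun h => hK2 (eq_top_of_card_eq K h)
      obtain ⟨q, hq, hne⟩ := ih _ hcard K (fun x hx1 hx2 => by
        rw [Subgroup.orderOf_coe x |>.symm] at hx1 hx2
        obtain ⟨k, hk⟩ := hH x hx1 hx2
        have h2 : (centralizer ({x} : Set K)).index ∣ p ^ k := by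
          rw [← hk]
          refine dvd_trans (dvd_of_eq ?_) (relIndex_dvd_index (centralizer ({(x : H)} : Set H)) K)
          rw [relIndex]
          congr 1
          ext y
          simp [mem_subgroupOf, mem_centralizer_singleton_iff, Subtype.ext_iff]
        obtain ⟨j, -, hj⟩ := (Nat.dvd_prime_pow hp.out).mp h2
        exact ⟨j, hj⟩) rfl
      haveI := Fact.mk hq
      refine ⟨q, hq, fun hbot => hne ?_⟩
      haveI := CharP.pCore_characteristic' (p := q) (G := K)
      have h1 : ((Cfsg.pCore q K).map K.subtype).Normal := inferInstance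
      have h2 : IsPGroup q ↥((Cfsg.pCore q K).map K.subtype) :=
        (Components.isPGroup_pCore (G := K) q).map _
      have h3 := Components.le_pCore_of_normal h1 h2
      rw [hbot, le_bot_iff, Subgroup.map_eq_bot_iff_of_injective _ K.subtype_injective] at h3
      exact h3

end CfsgLib.PSingular
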