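import Cfsg.Agent.Lib.PSingular.Basic
import Cfsg.Agent.Lib.Solvable.Core
import Cfsg.Agent.Lib.Solvable.CoprimeMulAction
import Cfsg.Agent.Lib.PGroup.Basic

/-!
# A bridge between coprime class sizes of elements of order `p`

Two elements of order `p` with coprime class sizes, one of them prime to `p` and none of them
central, admit a `p`-singular element whose class size is coprime to neither.
-/

set_option autoImplicit false
set_option linter.style.haveILetI false

namespace CfsgLib.PSingular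

open Subgroup
open scoped commutatorElement

universe u

variable {G : Type u} [Group G] [Finite G] {p : ℕ} [hp : Fact p.Prime]

local notation "cl" x:arg => Subgroup.index (Subgroup.centralizer ({x} : Set _))

/-- If the centraliser of `y z` is transitive on the class of `y` then the quotients of two
conjugates of `y` move the class of `z` by translations. -/
theorem translate {y z : G} (hy : y ^ p = 1) (hya : cl y ≠ 1)
    (hpair : ∀ y1 z1, IsConj y y1 → IsConj z z1 → Commute y1 z1)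
    (hMN : ∀ g : G, ∃ m ∈ centralizer ({y} : Set G), ∃ n ∈ centralizer ({z} : Set G), g = m * n)
    (htr : cl y ∣ (centralizer ({y} : Set G)).relIndex (centralizer ({y * z} : Set G))) :
    (∀ y1 y2, IsConj y y1 → IsConj y y2 → Commute y1 y2) ∧
      (∀ y1 y2 z1, IsConj y y1 → IsConj y y2 → IsConj z z1 → IsConj z (y1⁻¹ * y2 * z1)) ∧
      p ∣ cl z := by
  have key1 : ∀ y1, IsConj y y1 → IsConj z (y1⁻¹ * y * z) := by
    intro y1 h1
    obtain ⟨g, hg⟩ := isConj_iff.mp h1
    obtain ⟨k, hk, m, hm, rfl⟩ := exists_mul_of_dvd_relIndex _ _ htr g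
    rw [mem_centralizer_singleton_iff] at hk hm
    refine isConj_iff.mpr ⟨k, ?_⟩
    have e1 : k * y * k⁻¹ = y1 := by
      rw [← hg, mul_assoc k m, hm]; group
    have e2 : (k * y * k⁻¹) * (k * z * k⁻¹) = y * z := by
      rw [show (k * y * k⁻¹) * (k * z * k⁻¹) = k * (y * z) * k⁻¹ by group, hk]; group
    rw [e1] at e2
    rw [mul_assoc y1⁻¹, ← e2]
    group
  have key2 : ∀ y1 z1, IsConj y y1 → IsConj z z1 → IsConj z (y1⁻¹ * y * z1) := by
    intro y1 z1 h1 h2
    obtain ⟨g, hg⟩ := isConj_iff.mp h2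
    obtain ⟨m, hm, n, hn, rfl⟩ := hMN g
    rw [mem_centralizer_singleton_iff] at hm hn
    have e1 : m * z * m⁻¹ = z1 := by
      rw [← hg, mul_assoc m n, hn]; group
    have h3 := key1 (m⁻¹ * y1 * m) (h1.trans (isConj_iff.mpr ⟨m⁻¹, by group⟩))
    refine h3.trans (isConj_iff.mpr ⟨m, ?_⟩)
    rw [← e1]
    calc m * ((m⁻¹ * y1 * m)⁻¹ * y * z) * m⁻¹ = y1⁻¹ * (m * y) * (z * m⁻¹) := by group
      _ = _ := by rw [hm]; group
  have key3 : ∀ y1 y2 z1, IsConj y y1 → IsConj y y2 → IsConj z z1 →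
      IsConj z (y1⁻¹ * y2 * z1) := by
    intro y1 y2 z1 h1 h2 h3
    obtain ⟨g, hg⟩ := isConj_iff.mp h2
    refine (key2 (g⁻¹ * y1 * g) (g⁻¹ * z1 * g) (h1.trans (isConj_iff.mpr ⟨g⁻¹, by group⟩))
      (h3.trans (isConj_iff.mpr ⟨g⁻¹, by group⟩))).trans (isConj_iff.mpr ⟨g, ?_⟩)
    rw [← hg]; group
  have habel : ∀ y1 y2, IsConj y y1 → IsConj y y2 → Commute y1 y2 := by
    intro y1 y2 h1 h2
    have h4 : Commute y1 (y1⁻¹ * y2) := by
      have hz := (hpair y1 z h1 (IsConj.refl z))
      have := (hpair y1 _ h1 (key3 y1 y2 z h1 h2 (IsConj.refl z))).mul_right hz.inv_right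
      simpa [mul_assoc] using this
    simpa using (Commute.refl y1).mul_right h4
  refine ⟨habel, key3, ?_⟩
  obtain ⟨g, hg⟩ : ∃ g, g * y * g⁻¹ ≠ y := by
    by_contra hcon
    push Not at hcon
    refine hya (Subgroup.index_eq_one.mpr (eq_top_iff.mpr fun g _ => ?_))
    rw [mem_centralizer_singleton_iff]
    exact mul_inv_eq_iff_eq_mul.mp (hcon g)
  set y1 := g * y * g⁻¹ with hy1
  have h1 : IsConj y y1 := isConj_iff.mpr ⟨g, rfl⟩
  rw [← ClassSize.ncard_setOf_isConj]
  refine dvd_ncard_of_mul_mem (c := y1⁻¹ * y) _ ?_ ?_ fun z1 hz1 => key3 y1 y z1 h1 (IsConj.refl y) hz1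
  · rw [((habel y1 y h1 (IsConj.refl y)).inv_left).mul_pow, inv_pow, hy, mul_one, inv_eq_one, hy1,
      conj_pow, hy]
    group
  · intro hc
    exact hg (inv_mul_eq_one.mp hc)

omit [Finite G] hp in
theorem isPGroup_zpowers [Finite G] [Fact p.Prime] {x : G} {k : ℕ} (hk : orderOf x = p ^ k) :
    IsPGroup p (zpowers x) :=
  IsPGroup.of_card (n := k) (by rw [Nat.card_zpowers, hk])

theorem exists_pPower_lift {H : Type*} [Group H] (π : G →* H) (x : G) {j : ℕ}
    (hx : orderOf (π x) = p ^ j) : ∃ g : G, π g = π x ∧ ∃ k, orderOf g = p ^ k := by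
  obtain ⟨a, b, hab, hk, hb⟩ := PNilpotent.exists_pPart_decomp (p := p) x
  refine ⟨x ^ a, ?_, hk⟩
  have h1 : orderOf (π (x ^ b)) ∣ p ^ j := by
    rw [map_pow, ← hx]; exact orderOf_pow_dvd b
  have h2 : (orderOf (π (x ^ b))).Coprime (p ^ j) :=
    (Nat.Coprime.coprime_dvd_left (orderOf_map_dvd π _) hb).pow_right j
  have h3 : π (x ^ b) = 1 := orderOf_eq_one_iff.mp (h2.eq_one_of_dvd h1)
  conv_rhs => rw [← hab, map_mul, h3, mul_one]

/-- The core of the bridge argument. -/
theorem false_of_no_bridge (y z : G) (hy : orderOf y = p) (hz : orderOf z = p)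
    (hya : cl y ≠ 1) (hzb : cl z ≠ 1) (hco : (cl y).Coprime (cl z)) (hpa : ¬ p ∣ cl y)
    (hno : ∀ x : G, p ∣ orderOf x → (cl x).Coprime (cl y) ∨ (cl x).Coprime (cl z)) : False := by
  classical
  set M := centralizer ({y} : Set G) with hM
  set N := centralizer ({z} : Set G) with hN
  have hy' : y ^ p = 1 := hy ▸ pow_orderOf_eq_one y
  have hz' : z ^ p = 1 := hz ▸ pow_orderOf_eq_one z
  -- A: `G = N M = M N`
  have hNM : ∀ g : G, ∃ n ∈ N, ∃ m ∈ M, g = n * m :=
    exists_mul_of_dvd_relIndex M N (dvd_relIndex_of_coprime M N hco)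
  have hMN : ∀ g : G, ∃ m ∈ M, ∃ n ∈ N, g = m * n :=
    exists_mul_of_dvd_relIndex N M (dvd_relIndex_of_coprime N M hco.symm)
  have hzM : ∀ z1, IsConj z z1 → ∃ m ∈ M, m * z * m⁻¹ = z1 := by
    intro z1 h
    obtain ⟨g, hg⟩ := isConj_iff.mp h
    obtain ⟨m, hm, n, hn, rfl⟩ := hMN g
    refine ⟨m, hm, ?_⟩
    rw [← hg, mul_assoc m n, mem_centralizer_singleton_iff.mp hn]; group
  -- B: all conjugates of `y` commute with all conjugates of `z`
  obtain ⟨P, hPM⟩ := (ClassSize.exists_sylow_le_centralizer_iff p y).mpr hpa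
  have hyz : Commute y z := by
    obtain ⟨Q, hQ⟩ := (isPGroup_zpowers (p := p) (k := 1) (x := z) (by rw [hz, pow_one])).exists_le_sylow
    obtain ⟨w, hw⟩ := MulAction.exists_smul_eq G P Q
    have h1 := hQ (mem_zpowers z)
    rw [← hw, Sylow.coe_subgroup_smul, Subgroup.mem_pointwise_smul_iff_inv_smul_mem,
      MulAut.smul_def, ← map_inv, MulAut.conj_apply, inv_inv] at h1
    obtain ⟨m, hm, e⟩ := hzM (w⁻¹ * z * w) (isConj_iff.mpr ⟨w⁻¹, by group⟩)
    have h2 : m * z * m⁻¹ ∈ M := e.symm ▸ hPM h1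
    have h3 := mul_mem (mul_mem (inv_mem hm) h2) hm
    have h4 : z ∈ M := by simpa [mul_assoc] using h3
    exact (mem_centralizer_singleton_iff.mp h4).symm
  have hpair : ∀ y1 z1, IsConj y y1 → IsConj z z1 → Commute y1 z1 := by
    intro y1 z1 h1 h2
    obtain ⟨g, rfl⟩ := isConj_iff.mp h1
    obtain ⟨m, hm, e⟩ := hzM (g⁻¹ * z1 * g) (h2.trans (isConj_iff.mpr ⟨g⁻¹, by group⟩))
    have e1 : g * m * z * (g * m)⁻¹ = z1 := by
      rw [show g * m * z * (g * m)⁻¹ = g * (m * z * m⁻¹) * g⁻¹ by group, e]; group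
    have e2 : g * m * y * (g * m)⁻¹ = g * y * g⁻¹ := by
      rw [mul_assoc g m y, mem_centralizer_singleton_iff.mp hm]; group
    rw [← e1, ← e2]
    exact (Commute.conj_iff (g * m)).mpr hyz
  -- C: translations
  set K := centralizer ({y * z} : Set G) with hK
  have hKN : M ⊓ K ≤ N := by
    intro k hk
    obtain ⟨h1, h2⟩ := hk
    have c1 : Commute k y := mem_centralizer_singleton_iff.mp h1
    have c2 : Commute k (y * z) := mem_centralizer_singleton_iff.mp h2
    exact mem_centralizer_singleton_iff.mpr (by simpa using (c1.inv_right.mul_right c2).eq)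
  have hKM : N ⊓ K ≤ M := by
    intro k hk
    obtain ⟨h1, h2⟩ := hk
    have c1 : Commute k z := mem_centralizer_singleton_iff.mp h1
    have c2 : Commute k (y * z) := mem_centralizer_singleton_iff.mp h2
    exact mem_centralizer_singleton_iff.mpr (by simpa using (c2.mul_right c1.inv_right).eq)
  have hMNK : M ⊓ N ≤ K := by
    intro k hk
    obtain ⟨h1, h2⟩ := hk
    have c1 : Commute k y := mem_centralizer_singleton_iff.mp h1
    have c2 : Commute k z := mem_centralizer_singleton_iff.mp h2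
    exact mem_centralizer_singleton_iff.mpr (c1.mul_right c2).eq
  have hMrel : (M ⊓ N).relIndex K = M.relIndex K := by
    rw [← inf_relIndex_right (M ⊓ N) K, ← inf_relIndex_right M K]
    congr 1
    exact le_antisymm (inf_le_inf_right K inf_le_left)
      (le_inf (le_inf inf_le_left hKN) inf_le_right)
  have hNrel : (M ⊓ N).relIndex K = N.relIndex K := by
    rw [← inf_relIndex_right (M ⊓ N) K, ← inf_relIndex_right N K]
    congr 1
    exact le_antisymm (inf_le_inf_right K inf_le_right)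
      (le_inf (le_inf hKM inf_le_left) inf_le_right)
  have hw1 : y * z ≠ 1 := by
    intro h
    have hzy : z = y⁻¹ := (inv_eq_of_mul_eq_one_right h).symm
    have : cl z = cl y := by
      congr 1
      ext g
      rw [mem_centralizer_singleton_iff, mem_centralizer_singleton_iff, hzy]
      exact Commute.inv_right_iff
    rw [this, Nat.coprime_self] at hco
    exact hya hco
  have hw : orderOf (y * z) = p :=
    orderOf_eq_prime (by rw [hyz.mul_pow, hy', hz', mul_one]) hw1
  have hdvdM : M.index ∣ (M ⊓ N).relIndex K * K.index := by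
    rw [relIndex_mul_index hMNK]; exact index_dvd_of_le inf_le_left
  have hdvdN : N.index ∣ (M ⊓ N).relIndex K * K.index := by
    rw [relIndex_mul_index hMNK]; exact index_dvd_of_le inf_le_right
  have htr := fun h : cl y ∣ M.relIndex K => translate (p := p) hy' hya hpair hMN h
  obtain ⟨habel, htrans, hpb⟩ : (∀ y1 y2, IsConj y y1 → IsConj y y2 → Commute y1 y2) ∧
      (∀ y1 y2 z1, IsConj y y1 → IsConj y y2 → IsConj z z1 → IsConj z (y1⁻¹ * y2 * z1)) ∧
      p ∣ cl z := by
    rcases hno (y * z) (dvd_of_eq hw.symm) with h | h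
    · exact htr (hMrel ▸ h.symm.dvd_of_dvd_mul_right hdvdM)
    · refine absurd (translate (p := p) (y := z) (z := y) hz' hzb
        (fun a b ha hb => (hpair b a hb ha).symm) hNM ?_).2.2 hpa
      rw [← hyz.eq]
      exact hNrel ▸ h.symm.dvd_of_dvd_mul_right hdvdN
  -- D: the Sylow `p`-subgroup of `M` is normal, centralised by all `p'`-elements
  have hsyl : ∀ h : M, ¬ p ∣ orderOf h →
      ∃ Q : Sylow p M, (Q : Subgroup M) ≤ centralizer ({h} : Set M) := by
    rintro ⟨h, hhM⟩ hh
    rw [Subgroup.orderOf_mk] at hh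
    have hc : Commute y h := (mem_centralizer_singleton_iff.mp hhM).symm
    have hcop : (orderOf y).Coprime (orderOf h) := by
      rw [hy]; exact hp.out.coprime_iff_not_dvd.mpr hh
    have hle := centralizer_mul_le hc hcop
    have hord : p ∣ orderOf (y * h) := by
      rw [hc.orderOf_mul_eq_mul_orderOf_of_coprime hcop, hy]; exact dvd_mul_right _ _
    have hcl : ¬ p ∣ cl (y * h) := by
      rcases hno _ hord with h1 | h1
      · exact absurd (h1.symm.eq_one_of_dvd (index_dvd_of_le (hle.trans inf_le_left))) hya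
      · exact fun hd => hp.out.ne_one (Nat.eq_one_of_dvd_coprimes h1 hd hpb)
    obtain ⟨Q, hQ⟩ := (ClassSize.exists_sylow_le_centralizer_iff p (y * h)).mpr hcl
    refine ⟨Q.subtype (hQ.trans (hle.trans inf_le_left)), fun x hx => ?_⟩
    rw [Sylow.coe_subtype, mem_subgroupOf] at hx
    rw [mem_centralizer_singleton_iff]
    exact Subtype.ext (mem_centralizer_singleton_iff.mp ((hQ.trans (hle.trans inf_le_right)) hx))
  obtain ⟨hPn, hPc⟩ := sylow_normal_of_forall (P.subtype hPM) hsyl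
  have hPall : ∀ u ∈ M, (∃ k, orderOf u = p ^ k) → u ∈ (P : Subgroup G) := by
    rintro u hu ⟨k, hk⟩
    haveI := hPn
    have h1 : IsPGroup p (zpowers (⟨u, hu⟩ : M)) :=
      isPGroup_zpowers (k := k) (by rw [Subgroup.orderOf_mk, hk])
    obtain ⟨S, hS⟩ := h1.exists_le_sylow
    haveI := Sylow.unique_of_normal (P.subtype hPM) hPn
    have h2 := hS (mem_zpowers _)
    rw [Subsingleton.elim S (P.subtype hPM), Sylow.coe_subtype, mem_subgroupOf] at h2
    exact h2
  have hPcomm : ∀ u ∈ (P : Subgroup G), ∀ h ∈ M, ¬ p ∣ orderOf h → Commute u h := by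
    intro u hu h hhM hh
    have := hPc ⟨u, hPM hu⟩ (by simpa [mem_subgroupOf] using hu) ⟨h, hhM⟩
      (by rwa [Subgroup.orderOf_mk])
    exact congr_arg Subtype.val this.eq
  have hyM : y ∈ M := mem_centralizer_singleton_iff.mpr rfl
  have hzM' : z ∈ M := mem_centralizer_singleton_iff.mpr hyz.symm.eq
  have hz1P : ∀ z1, IsConj z z1 → z1 ∈ (P : Subgroup G) := by
    intro z1 h
    obtain ⟨m, hm, e⟩ := hzM z1 h
    refine hPall z1 (e ▸ mul_mem (mul_mem hm hzM') (inv_mem hm)) ⟨1, ?_⟩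
    rw [← e, ← MulAut.conj_apply, MulEquiv.orderOf_eq, hz, pow_one]
  -- E: the centraliser of the class of `y`
  set C0 := centralizer {y1 : G | IsConj y y1} with hC0
  haveI hC0n : C0.Normal := by
    refine ⟨fun c hc g => mem_centralizer_iff.mpr fun y1 h1 => ?_⟩
    have h2 := mem_centralizer_iff.mp hc (g⁻¹ * y1 * g)
      (show IsConj y _ from IsConj.trans h1 (isConj_iff.mpr ⟨g⁻¹, by group⟩))
    calc y1 * (g * c * g⁻¹) = g * ((g⁻¹ * y1 * g) * c) * g⁻¹ := by group
      _ = _ := by rw [h2]; group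
  have hC0M : C0 ≤ M := fun c hc =>
    mem_centralizer_singleton_iff.mpr (mem_centralizer_iff.mp hc y (IsConj.refl y)).symm
  have hyC0 : y ∈ C0 :=
    mem_centralizer_iff.mpr fun y1 h1 => (habel y1 y h1 (IsConj.refl y)).eq
  have hzC0 : z ∈ C0 :=
    mem_centralizer_iff.mpr fun y1 h1 => (hpair y1 z h1 (IsConj.refl z)).eq
  have hp'C0 : ∀ h ∈ M, ¬ p ∣ orderOf h → h ∈ C0 := by
    intro h hhM hh
    refine mem_centralizer_iff.mpr fun y1 h1 => ?_
    have hd := htrans y1 y z h1 (IsConj.refl y) (IsConj.refl z)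
    have c1 : Commute (y1⁻¹ * y * z) h := hPcomm _ (hz1P _ hd) h hhM hh
    have c2 : Commute z h := hPcomm _ (hz1P _ (IsConj.refl z)) h hhM hh
    have c3 : Commute y h := (mem_centralizer_singleton_iff.mp hhM).symm
    have c4 : Commute (y1⁻¹) h := by
      simpa using (c1.mul_left c2.inv_left).mul_left c3.inv_left
    simpa using c4.inv_left.eq
  have hdiv : ∀ t : ℕ, t.Prime → t ∣ C0.index → t = p ∨ t ∣ cl y := by
    intro t ht htd
    rw [← relIndex_mul_index hC0M, ht.dvd_mul] at htd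
    rcases htd with htd | htd
    · left
      by_contra htp
      haveI := Fact.mk ht
      obtain ⟨mb, hmb⟩ := exists_prime_orderOf_dvd_card' (G := M ⧸ C0.subgroupOf M) t htd
      obtain ⟨m, rfl⟩ := QuotientGroup.mk'_surjective (C0.subgroupOf M) mb
      obtain ⟨g, hg, k, hk⟩ := exists_pPower_lift (p := t) (j := 1)
        (QuotientGroup.mk' (C0.subgroupOf M)) m (by rw [hmb, pow_one])
      have hgC : (g : G) ∈ C0 := by
        refine hp'C0 _ g.2 ?_
        rw [Subgroup.orderOf_coe, hk]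
        exact fun h => htp ((Nat.prime_dvd_prime_iff_eq hp.out ht).mp (hp.out.dvd_of_dvd_pow h)).symm
      have : QuotientGroup.mk' (C0.subgroupOf M) g = 1 :=
        (QuotientGroup.eq_one_iff _).mpr (mem_subgroupOf.mpr hgC)
      rw [← hg, this, orderOf_one] at hmb
      exact ht.ne_one hmb.symm
    · exact Or.inr htd
  have hfix : ∀ W : Subgroup G, W.Normal → W ≤ M → W ≤ C0 := by
    intro W hW hWM w hw
    refine mem_centralizer_iff.mpr fun y1 h1 => ?_
    obtain ⟨g, rfl⟩ := isConj_iff.mp h1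
    have h2 := mem_centralizer_singleton_iff.mp (hWM (hW.conj_mem' w hw g))
    calc g * y * g⁻¹ * w = g * (y * (g⁻¹ * w * g)) * g⁻¹ := by group
      _ = _ := by rw [← h2]; group
  let π := QuotientGroup.mk' C0
  have hπ : Function.Surjective π := QuotientGroup.mk'_surjective C0
  have hcardH : Nat.card (G ⧸ C0) = C0.index := rfl
  have hcore : Cfsg.pCore p (G ⧸ C0) = ⊥ := by
    have h1 : (Cfsg.pCore p (G ⧸ C0)).comap π ≤ C0 := by
      refine hfix _ ((Solvable.pCore_normal p (G ⧸ C0)).comap π) ?_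
      refine le_trans (comap_mono (Solvable.pCore_le_sylow (P.mapSurjective hπ))) ?_
      rw [Sylow.coe_mapSurjective, comap_map_eq, QuotientGroup.ker_mk']
      exact sup_le hPM hC0M
    rw [eq_bot_iff]
    intro x hx
    obtain ⟨g, rfl⟩ := hπ x
    exact mem_bot.mpr ((QuotientGroup.eq_one_iff g).mpr (h1 hx))
  have hH : ∀ x : G ⧸ C0, (orderOf x).Prime → orderOf x ≠ p →
      ∃ k, (centralizer ({x} : Set (G ⧸ C0))).index = p ^ k := by
    intro x hx1 hx2
    haveI := Fact.mk hx1
    have hqd : orderOf x ∣ cl y := by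
      refine (hdiv _ hx1 ?_).resolve_left hx2
      rw [← hcardH]; exact orderOf_dvd_natCard x
    obtain ⟨x0, hx0⟩ := hπ x
    obtain ⟨g, hg, k, hk⟩ := exists_pPower_lift (p := orderOf x) (j := 1) π x0
      (by rw [hx0, pow_one])
    rw [hx0] at hg
    obtain ⟨Q, hQ⟩ := (ClassSize.exists_sylow_le_centralizer_iff (orderOf x) z).mpr
      (fun hd => hx1.ne_one (Nat.eq_one_of_dvd_coprimes hco hqd hd))
    obtain ⟨Q', hQ'⟩ := (isPGroup_zpowers (p := orderOf x) hk).exists_le_sylow
    obtain ⟨w, hw'⟩ := MulAction.exists_smul_eq G Q Q'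
    have h1 := hQ' (mem_zpowers g)
    rw [← hw', Sylow.coe_subgroup_smul, Subgroup.mem_pointwise_smul_iff_inv_smul_mem,
      MulAut.smul_def, ← map_inv, MulAut.conj_apply, inv_inv] at h1
    set g' := w⁻¹ * g * w with hg'
    have hg'o : orderOf g' = orderOf x ^ k := by
      rw [hg', show w⁻¹ * g * w = MulAut.conj w⁻¹ g by simp, MulEquiv.orderOf_eq, hk]
    have hc : Commute z g' := (mem_centralizer_singleton_iff.mp (hQ h1)).symm
    have hcop : (orderOf z).Coprime (orderOf g') := by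
      rw [hz, hg'o]; exact ((Nat.coprime_primes hp.out hx1).mpr (Ne.symm hx2)).pow_right k
    have hle := centralizer_mul_le hc hcop
    have hord : p ∣ orderOf (z * g') := by
      rw [hc.orderOf_mul_eq_mul_orderOf_of_coprime hcop, hz]; exact dvd_mul_right _ _
    have hcl : (cl g').Coprime (cl y) := by
      rcases hno _ hord with h2 | h2
      · exact h2.coprime_dvd_left (index_dvd_of_le (hle.trans inf_le_right))
      · exact absurd (h2.symm.eq_one_of_dvd (index_dvd_of_le (hle.trans inf_le_left))) hzb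
    have e : π g' = (π w)⁻¹ * x * ((π w)⁻¹)⁻¹ := by
      rw [hg', map_mul, map_mul, map_inv, hg, inv_inv]
    have hclx : (centralizer ({x} : Set (G ⧸ C0))).index ∣ cl g' := by
      rw [← index_centralizer_conj x (π w)⁻¹, ← e]
      refine dvd_trans (index_dvd_of_le ?_) (index_map_dvd (centralizer ({g'} : Set G)) hπ)
      rintro _ ⟨c, hc', rfl⟩
      have := congr_arg π (mem_centralizer_singleton_iff.mp hc')
      rw [map_mul, map_mul] at this
      exact mem_centralizer_singleton_iff.mpr this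
    refine ⟨_, Nat.eq_prime_pow_of_unique_prime_dvd Subgroup.index_ne_zero_of_finite
      fun {t} ht htd => ?_⟩
    rcases hdiv t ht (hcardH ▸ htd.trans (Subgroup.index_dvd_card _)) with h2 | h2
    · exact h2
    · exact absurd (Nat.eq_one_of_dvd_coprimes hcl (htd.trans hclx) h2) ht.ne_one
  haveI : Nontrivial (G ⧸ C0) := by
    rw [← Finite.one_lt_card_iff_nontrivial, hcardH]
    refine lt_of_le_of_ne (Nat.pos_of_ne_zero Subgroup.index_ne_zero_of_finite) fun h => hya ?_
    exact Nat.dvd_one.mp (h ▸ index_dvd_of_le hC0M)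
  obtain ⟨q, hq, hqne⟩ := exists_normal_qGroup (p := p) (G ⧸ C0) hH
  haveI := Fact.mk hq
  have hqp : q ≠ p := fun h => hqne (h ▸ hcore)
  obtain ⟨⟨rb, hrb⟩, hrbne⟩ := Subgroup.ne_bot_iff_exists_ne_one.mp hqne
  have hrb1 : rb ≠ 1 := fun h => hrbne (Subtype.ext h)
  obtain ⟨j, hj⟩ : ∃ j, orderOf rb = q ^ j := by
    have := (IsPGroup.iff_orderOf.mp (Solvable.pCore_isPGroup q (G ⧸ C0))) ⟨rb, hrb⟩
    simpa using this
  obtain ⟨r0, hr0⟩ := hπ rb
  obtain ⟨r, hr, k, hk⟩ := exists_pPower_lift (p := q) (j := j) π r0 (by rw [hr0, hj])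
  rw [hr0] at hr
  have hrC0 : r ∉ C0 := fun h => hrb1 (hr ▸ (QuotientGroup.eq_one_iff r).mpr h)
  have hrp : ¬ p ∣ orderOf r := by
    rw [hk]
    exact fun h => hqp ((Nat.prime_dvd_prime_iff_eq hp.out hq).mp (hp.out.dvd_of_dvd_pow h)).symm
  have hqd : q ∣ cl y := by
    refine (hdiv q hq ?_).resolve_left hqp
    rw [← hcardH]
    refine dvd_trans ?_ (orderOf_dvd_natCard rb)
    rw [hj]
    refine dvd_pow_self q fun h => hrb1 (orderOf_eq_one_iff.mp ?_)
    rw [hj, h, pow_zero]
  have hrdec : ∀ u : G, ¬ q ∣ cl u → ∃ c0 ∈ C0, ∃ c, Commute c u ∧ r = c0 * c := by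
    intro u hu
    obtain ⟨Q, hQ⟩ := (ClassSize.exists_sylow_le_centralizer_iff q u).mpr hu
    have h1 := Solvable.pCore_le_sylow (Q.mapSurjective hπ) hrb
    rw [Sylow.coe_mapSurjective] at h1
    obtain ⟨c, hc, hc'⟩ := h1
    refine ⟨r * c⁻¹, ?_, c, mem_centralizer_singleton_iff.mp (hQ hc), by group⟩
    refine (QuotientGroup.eq_one_iff _).mp ?_
    change π (r * c⁻¹) = 1
    rw [map_mul, map_inv, hr, hc', mul_inv_cancel]
  -- F: the normal Sylow subgroup of `C0`
  set P0 : Subgroup G := (P : Subgroup G) ⊓ C0 with hP0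
  have hP0p : IsPGroup p P0 := P.2.to_le inf_le_left
  haveI hP0n : P0.Normal := by
    refine ⟨fun u hu g => ?_⟩
    have h1 : g * u * g⁻¹ ∈ C0 := hC0n.conj_mem u hu.2 g
    refine ⟨hPall _ (hC0M h1) ?_, h1⟩
    obtain ⟨k, hk⟩ := IsPGroup.iff_orderOf.mp hP0p ⟨u, hu⟩
    exact ⟨k, by rw [← MulAut.conj_apply, MulEquiv.orderOf_eq, ← hk, Subgroup.orderOf_mk]⟩
  have hzP0 : z ∈ P0 := ⟨hz1P z (IsConj.refl z), hzC0⟩
  have hyP0 : y ∈ P0 := ⟨hPall y hyM ⟨1, by rw [hy, pow_one]⟩, hyC0⟩
  have hC0dec : ∀ c ∈ C0, ∃ u ∈ P0, ∃ h, c = u * h ∧ ∀ v ∈ P0, Commute v h := by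
    intro c hc
    obtain ⟨a, b, hab, hk, hb⟩ := PNilpotent.exists_pPart_decomp (p := p) c
    exact ⟨c ^ a, ⟨hPall _ (hC0M (pow_mem hc a)) hk, pow_mem hc a⟩, c ^ b, hab.symm,
      fun v hv => hPcomm v hv.1 _ (hC0M (pow_mem hc b)) (not_dvd_iff_coprime.mp hb)⟩
  by_cases hzc : ∀ u ∈ P0, Commute u z
  · -- `z` central in `P0`
    have hrz : ∀ z1, IsConj z z1 → Commute r z1 := by
      intro z1 h1
      obtain ⟨g, rfl⟩ := isConj_iff.mp h1
      have hz1 : g * z * g⁻¹ ∈ P0 := hP0n.conj_mem z hzP0 g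
      obtain ⟨c0, hc0, c, hc, rfl⟩ := hrdec (g * z * g⁻¹) (by
        rw [index_centralizer_conj]
        exact fun hd => hq.ne_one (Nat.eq_one_of_dvd_coprimes hco hqd hd))
      refine Commute.mul_left ?_ hc
      obtain ⟨u, hu, h, rfl, hh⟩ := hC0dec c0 hc0
      refine Commute.mul_left ?_ (hh _ hz1).symm
      have h2 := hzc (g⁻¹ * u * g) (hP0n.conj_mem' u hu g)
      have h3 := (Commute.conj_iff g).mpr h2
      simpa [mul_assoc] using h3
    have hry : ∀ y1, IsConj y y1 → IsConj y ((r * y * r⁻¹ * y⁻¹) * y1) := by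
      intro y1 h1
      have hd := hrz _ (htrans y1 y z h1 (IsConj.refl y) (IsConj.refl z))
      have h2 : Commute r (y1⁻¹ * y) := by
        simpa using hd.mul_right (hrz z (IsConj.refl z)).inv_right
      refine h1.trans (isConj_iff.mpr ⟨r, ?_⟩)
      calc r * y1 * r⁻¹ = r * y * (y⁻¹ * y1) * r⁻¹ := by group
        _ = r * y * ((y⁻¹ * y1) * r⁻¹) := by group
        _ = r * y * (r⁻¹ * (y⁻¹ * y1)) := by
          rw [show y⁻¹ * y1 = (y1⁻¹ * y)⁻¹ by group, (h2.inv_left.inv_right).eq]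
        _ = _ := by group
    have hrM : r ∈ M := by
      rw [hM, mem_centralizer_singleton_iff]
      by_contra hne
      refine hpa ?_
      rw [← ClassSize.ncard_setOf_isConj]
      refine dvd_ncard_of_mul_mem (c := r * y * r⁻¹ * y⁻¹) _ ?_
        (fun h => hne (by rw [mul_inv_eq_one, mul_inv_eq_iff_eq_mul] at h; exact h)) hry
      rw [((habel _ y (isConj_iff.mpr ⟨r, rfl⟩) (IsConj.refl y)).inv_right).mul_pow, conj_pow,
        hy', inv_pow, hy']
      group
    exact hrC0 (hp'C0 r hrM hrp)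
  · -- `z` not central in `P0`
    letI : MulDistribMulAction (zpowers r) P0 :=
      MulDistribMulAction.compHom P0 ((MulAut.conjNormal (H := P0)).comp (zpowers r).subtype)
    let F := frattini P0
    have hkey : ∀ u : P0, (¬ ∀ v ∈ P0, Commute v (u : G)) →
        u⁻¹ * MulAut.conjNormal r u ∈ F := by
      intro u hu
      have hpu : p ∣ cl (u : G) := by
        by_contra hd
        obtain ⟨S, hS⟩ := (ClassSize.exists_sylow_le_centralizer_iff p (u : G)).mpr hd
        exact hu fun v hv =>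
          mem_centralizer_singleton_iff.mp (hS (hP0p.le_sylow_of_normal S hv))
      obtain ⟨i, hi⟩ := IsPGroup.iff_orderOf.mp hP0p u
      have hpo : p ∣ orderOf (u : G) := by
        rw [Subgroup.orderOf_coe, hi]
        refine dvd_pow_self p fun h => hu fun v _ => ?_
        rw [h, pow_zero, orderOf_eq_one_iff] at hi
        simp [hi]
      have hcu : (cl (u : G)).Coprime (cl y) :=
        (hno _ hpo).resolve_right fun h => hp.out.ne_one (Nat.eq_one_of_dvd_coprimes h hpu hpb)
      obtain ⟨c0, hc0, c, hc, e⟩ := hrdec (u : G) fun hd =>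
        hq.ne_one (Nat.eq_one_of_dvd_coprimes hcu hd hqd)
      obtain ⟨v, hv, h, rfl, hh⟩ := hC0dec c0 hc0
      have e2 : MulAut.conjNormal r u = ⟨v, hv⟩ * u * ⟨v, hv⟩⁻¹ := by
        apply Subtype.ext
        rw [MulAut.conjNormal_apply]
        push_cast
        calc r * (u : G) * r⁻¹ = v * h * (c * (u : G)) * c⁻¹ * (h⁻¹ * v⁻¹) := by rw [e]; group
          _ = v * (h * (u : G)) * h⁻¹ * v⁻¹ := by rw [hc.eq]; group
          _ = _ := by rw [(hh u u.2).symm.eq]; group
      rw [e2]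
      refine PGroup.commutator_le_frattini (p := p) hP0p ?_
      rw [show u⁻¹ * (⟨v, hv⟩ * u * ⟨v, hv⟩⁻¹) = ⁅u⁻¹, (⟨v, hv⟩ : P0)⁆ by
        rw [commutatorElement_def]; group]
      exact Subgroup.commutator_mem_commutator (mem_top _) (mem_top _)
    have hz0 : ¬ ∀ v ∈ P0, Commute v ((⟨z, hzP0⟩ : P0) : G) := hzc
    have hall : ∀ u : P0, u⁻¹ * MulAut.conjNormal r u ∈ F := by
      intro u
      by_cases hu : ∀ v ∈ P0, Commute v (u : G)
      · have h1 := hkey (u * ⟨z, hzP0⟩) fun hc => hz0 fun v hv => by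
          simpa using (hu v hv).inv_right.mul_right (hc v hv)
        have h2 := hkey ⟨z, hzP0⟩ hz0
        rw [map_mul] at h1
        set Z : P0 := ⟨z, hzP0⟩
        have h3 := (inferInstance : F.Normal).conj_mem _ (mul_mem h1 (inv_mem h2)) Z
        convert h3 using 1
        group
      · exact hkey u hu
    have htriv : ∀ (a : zpowers r) (u : P0), u⁻¹ * a • u ∈ F := by
      have hnat : ∀ n : ℕ, ∀ u : P0, u⁻¹ * MulAut.conjNormal (r ^ n) u ∈ F := by
        intro n
        induction n with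
        | zero => intro u; simp
        | succ n ih =>
          intro u
          have h1 := mul_mem (ih u) (hall (MulAut.conjNormal (r ^ n) u))
          rw [pow_succ', map_mul, MulAut.mul_apply]
          simpa [mul_assoc] using h1
      rintro ⟨a, ha⟩ u
      obtain ⟨n, rfl⟩ := (isOfFinOrder_of_finite r).mem_powers_iff_mem_zpowers.mpr ha
      exact hnat n u
    have hcopr : (Nat.card (zpowers r)).Coprime (Nat.card F) := by
      obtain ⟨n, hn⟩ := IsPGroup.iff_card.mp (hP0p.to_subgroup F)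
      rw [Nat.card_zpowers, hn]
      exact (not_dvd_iff_coprime.mpr hrp).pow_right n
    have hact := Solvable.smul_eq_self_of_trivial_on_frattini_quotient hcopr htriv
      ⟨r, mem_zpowers r⟩ ⟨y, hyP0⟩
    have hrM : r ∈ M := by
      rw [hM, mem_centralizer_singleton_iff, ← mul_inv_eq_iff_eq_mul]
      exact congr_arg Subtype.val hact
    exact hrC0 (hp'C0 r hrM hrp)

end CfsgLib.PSingular
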